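import Mathlib.RingTheory.AdjoinRoot
import Mathlib.RingTheory.DiscreteValuationRing.Basic
import Mathlib.RingTheory.IntegralClosure.IntegrallyClosed
import Mathlib.RingTheory.Localization.Away.Basic
import Mathlib.RingTheory.Flat.FaithfullyFlat.Algebra
import Mathlib.Data.Nat.Choose.Factorization
import Mathlib.Algebra.CharP.Lemmas

/-!
# Levels of Kummer torsors of order `p ^ n`
-/

open Polynomial Finset

universe u

namespace Groth.Agent.Lib.KummerLevel99.Basic

theorem pow_sub_pow_le {p : ℕ} (hp : 1 ≤ p) (a : ℕ) : ∀ m, p ^ (a + m) - p ^ a ≤ m * (p ^ (a + m - 1) * (p - 1))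
  | 0 => by simp
  | m + 1 => by
    have h := pow_sub_pow_le hp a m
    have h1 : p ^ (a + (m + 1)) - p ^ (a + m) = p ^ (a + m) * (p - 1) := by
      rw [← add_assoc, pow_succ, Nat.mul_sub, mul_one]
    have h2 : p ^ (a + m - 1) * (p - 1) ≤ p ^ (a + m) * (p - 1) :=
      Nat.mul_le_mul_right _ (Nat.pow_le_pow_right hp (Nat.sub_le _ 1))
    have h3 := Nat.mul_le_mul_left m h2
    have h4 : (m + 1) * (p ^ (a + (m + 1) - 1) * (p - 1)) = m * (p ^ (a + m) * (p - 1)) + p ^ (a + m) * (p - 1) := by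
      rw [show a + (m + 1) - 1 = a + m by omega]; ring
    omega

/-- The binomial coefficients of `p ^ n` are highly divisible. -/
theorem pow_dvd_choose {R : Type u} [CommRing R] (ϖ : R) {p : ℕ} (hp : p.Prime) {n j : ℕ}
    (hj : ϖ ^ (p ^ (n - 1) * (p - 1) * (j + 1)) ∣ (p : R)) {i : ℕ} (hi : 0 < i) (hiP : i < p ^ n) :
    ϖ ^ ((j + 1) * (p ^ n - i)) ∣ ((p ^ n).choose i : R) := by
  set a := i.factorization p
  have ha : p ^ a ≤ i := Nat.le_of_dvd hi (Nat.ordProj_dvd i p)
  have han : a < n := (Nat.pow_lt_pow_iff_right hp.one_lt).1 (lt_of_le_of_lt ha hiP)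
  have h1 : p ^ (n - a) ∣ (p ^ n).choose i := by
    rw [← Nat.factorization_choose_prime_pow hp hiP.le hi.ne']
    exact Nat.ordProj_dvd _ _
  have h2 : (p : R) ^ (n - a) ∣ ((p ^ n).choose i : R) := by exact_mod_cast Nat.cast_dvd_cast (α := R) h1
  refine dvd_trans ?_ h2
  refine dvd_trans (pow_dvd_pow ϖ ?_) ((pow_mul ϖ _ (n - a)).symm ▸ pow_dvd_pow_of_dvd hj (n - a))
  have h3 := pow_sub_pow_le hp.one_le a (n - a)
  rw [Nat.add_sub_cancel' han.le] at h3
  calc (j + 1) * (p ^ n - i) ≤ (j + 1) * ((n - a) * (p ^ (n - 1) * (p - 1))) :=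
        Nat.mul_le_mul_left _ (le_trans (Nat.sub_le_sub_left ha _) h3)
    _ = p ^ (n - 1) * (p - 1) * (j + 1) * (n - a) := by ring

/-- Binomial expansion without the outer terms. -/
theorem one_add_pow_eq {L : Type u} [CommRing L] (x : L) {N : ℕ} (hN : 0 < N) :
    (1 + x) ^ N = 1 + x ^ N + ∑ i ∈ Finset.Ioo 0 N, (N.choose i : L) * x ^ i := by
  rw [add_comm 1 x, add_pow, Finset.sum_range_succ, Finset.range_eq_Ico, Finset.sum_eq_sum_Ico_succ_bot hN,
    show Finset.Ico (0 + 1) N = Finset.Ioo 0 N by ext; simp; omega]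
  simp only [one_pow, mul_one, pow_zero, Nat.choose_zero_right, Nat.choose_self, Nat.cast_one, zero_add]
  rw [Finset.sum_congr rfl fun i _ => mul_comm (x ^ i) _]
  abel

theorem main
    (R : Type u) [CommRing R] [IsDomain R] [IsDiscreteValuationRing R]
    (p : ℕ) [Fact p.Prime] (ϖ : R) (hϖ : Irreducible ϖ)
    (n : ℕ) (A : Type u) [CommRing A] [IsDomain A] [IsIntegrallyClosed A] [Algebra R A]
    [Module.FaithfullyFlat R A]
    (hlift : ∀ a : A, IsUnit (Ideal.Quotient.mk (Ideal.span {algebraMap R A ϖ}) a) → IsUnit a)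
    (f g : Aˣ) (j : ℕ) (hj : ϖ ^ (p ^ (n - 1) * (p - 1) * (j + 1)) ∣ (p : R)) (f₀ : A)
    (hfg : (f : A) * (g : A) ^ (p ^ n) = 1 + (algebraMap R A ϖ) ^ (j * p ^ n) * f₀)
    (hmax : ∀ (g' : Aˣ) (c : A), (f : A) * (g' : A) ^ (p ^ n) ≠ 1 + (algebraMap R A ϖ) ^ ((j + 1) * p ^ n) * c)
    (hred : (Ideal.span {algebraMap A (integralClosure A (AdjoinRoot (Polynomial.X ^ (p ^ n) - Polynomial.C (algebraMap A (Localization.Away (algebraMap R A ϖ)) (f : A))))) (algebraMap R A ϖ)}).IsRadical)
    (g₀ : A) : f₀ - g₀ ^ (p ^ n) ∉ Ideal.span {(algebraMap R A ϖ)} := by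
  intro hmem
  have hp : p.Prime := Fact.out
  set π := algebraMap R A ϖ with hπdef
  set P := p ^ n with hPdef
  have hP : 0 < P := pow_pos hp.pos n
  let A' := Localization.Away π
  let F : A'[X] := X ^ P - C (algebraMap A A' (f : A))
  let L := AdjoinRoot F
  have hπ0 : π ≠ 0 := fun h => hϖ.ne_zero (FaithfulSMul.algebraMap_injective R A (by rw [map_zero]; exact h))
  have hinjA : Function.Injective (algebraMap A A') :=
    IsLocalization.injective A' (powers_le_nonZeroDivisors_of_noZeroDivisors hπ0)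
  haveI : IsDomain A' := IsLocalization.isDomain_localization (powers_le_nonZeroDivisors_of_noZeroDivisors hπ0)
  have hdeg : F.degree ≠ 0 := by
    rw [degree_X_pow_sub_C hP]
    exact_mod_cast hP.ne'
  have hinjL : Function.Injective (algebraMap A' L) := AdjoinRoot.of.injective_of_degree_ne_zero hdeg
  have htow : ∀ a : A, algebraMap A L a = algebraMap A' L (algebraMap A A' a) := fun a =>
    IsScalarTower.algebraMap_apply A A' L a
  have hπu : IsUnit (algebraMap A L π) := by
    rw [htow]; exact (IsLocalization.Away.algebraMap_isUnit π).map _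
  -- integral elements of `L` whose multiple by a power of `π` is in `A` are in `A`
  have hdesc : ∀ (w : L) (a : A) (m : ℕ), IsIntegral A w → algebraMap A L π ^ m * w = algebraMap A L a →
      ∃ c, a = π ^ m * c := by
    intro w a m hw hwa
    obtain ⟨x, hx⟩ : ∃ x : A', algebraMap A A' π ^ m * x = algebraMap A A' a := by
      obtain ⟨v, hv⟩ := (IsLocalization.Away.algebraMap_isUnit (S := A') π).pow m
      exact ⟨(↑v⁻¹ : A') * algebraMap A A' a, by rw [← mul_assoc, ← hv, Units.mul_inv, one_mul]⟩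
    have hxw : algebraMap A' L x = w := by
      refine (hπu.pow m).mul_left_cancel ?_
      rw [hwa, htow π, ← map_pow, ← map_mul, hx, htow]
    have hxi : IsIntegral A x := by
      rw [← hxw] at hw
      exact (isIntegral_algHom_iff (IsScalarTower.toAlgHom A A' L) hinjL).1 hw
    let ψ : A' →ₐ[A] FractionRing A :=
      IsLocalization.liftAlgHom (M := Submonoid.powers π) (S := A') (f := Algebra.ofId A (FractionRing A))
        (fun y => by
          obtain ⟨k, hk⟩ := y.2
          refine IsUnit.mk0 _ fun h => ?_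
          rw [Algebra.ofId_apply] at h
          have h0 := IsFractionRing.injective A (FractionRing A) (h.trans (map_zero _).symm)
          rw [← hk] at h0
          exact pow_ne_zero k hπ0 h0)
    obtain ⟨c, hc⟩ := IsIntegrallyClosed.isIntegral_iff.1 (hxi.map ψ)
    refine ⟨c, IsFractionRing.injective A (FractionRing A) ?_⟩
    have := congrArg ψ hx
    rw [map_mul, map_pow, AlgHom.commutes, AlgHom.commutes] at this
    rw [← this, map_mul, map_pow, hc]
  -- the divisibility of the binomial coefficients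
  have hch : ∀ i, ∃ c : A, i ∈ Finset.Ioo 0 P → ((P.choose i : ℕ) : A) = π ^ ((j + 1) * (P - i)) * c := fun i => by
    by_cases hi : i ∈ Finset.Ioo 0 P
    · obtain ⟨hi1, hi2⟩ := Finset.mem_Ioo.1 hi
      obtain ⟨c, hc⟩ := pow_dvd_choose ϖ hp hj hi1 hi2
      exact ⟨algebraMap R A c, fun _ => by rw [← map_natCast (algebraMap R A), hc, map_mul, map_pow]⟩
    · exact ⟨0, fun h => absurd h hi⟩
  choose cc hcc using hch
  obtain ⟨p', hp'⟩ : ∃ p' : A, (p : A) = π * p' := by
    obtain ⟨c, hc⟩ := hj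
    obtain ⟨e, he⟩ : ∃ e, p ^ (n - 1) * (p - 1) * (j + 1) = e + 1 := by
      refine ⟨p ^ (n - 1) * (p - 1) * (j + 1) - 1, ?_⟩
      have h1 : 0 < p ^ (n - 1) * (p - 1) * (j + 1) :=
        Nat.mul_pos (Nat.mul_pos (pow_pos hp.pos _) (Nat.sub_pos_of_lt hp.one_lt)) j.succ_pos
      omega
    refine ⟨π ^ e * algebraMap R A c, ?_⟩
    rw [← map_natCast (algebraMap R A), hc, map_mul, map_pow, he, pow_succ', mul_assoc]
  set Z : L := AdjoinRoot.root F
  have hZ : Z ^ P = algebraMap A L (f : A) := by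
    have h := AdjoinRoot.eval₂_root F
    simp only [F, eval₂_sub, eval₂_pow, eval₂_X, eval₂_C, sub_eq_zero] at h
    rw [htow]
    exact h
  obtain ⟨t, ht⟩ := hπu
  set y : L := ((↑t⁻¹ : L)) ^ j * (Z * algebraMap A L g - 1)
  have hy1 : 1 + algebraMap A L π ^ j * y = Z * algebraMap A L g := by
    simp only [y, ← ht, ← mul_assoc, ← mul_pow, Units.mul_inv, one_pow, one_mul, add_sub_cancel]
  set H : A[X] := ∑ i ∈ Finset.Ioo 0 P, C (cc i * π ^ (P - i - 1)) * X ^ i with hH
  have hyH : y ^ P + algebraMap A L π * aeval y H - algebraMap A L f₀ = 0 := by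
    refine ((t.isUnit.pow (j * P))).mul_left_cancel ?_
    rw [mul_zero, ht, mul_sub, mul_add]
    have h1 : (1 + algebraMap A L π ^ j * y) ^ P = 1 + algebraMap A L π ^ (j * P) * algebraMap A L f₀ := by
      rw [hy1, mul_pow, hZ, ← map_pow, ← map_mul, hfg, map_add, map_one, map_mul, map_pow]
    rw [one_add_pow_eq _ hP, mul_pow, ← pow_mul, add_assoc, add_left_cancel_iff] at h1
    rw [← h1, sub_eq_zero, add_left_cancel_iff, hH, map_sum, Finset.mul_sum, Finset.mul_sum]
    refine Finset.sum_congr rfl fun i hi => ?_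
    rw [← map_natCast (algebraMap A L), hcc i hi]
    simp only [map_mul, map_pow, aeval_C, aeval_X]
    obtain ⟨hi1, hi2⟩ := Finset.mem_Ioo.1 hi
    obtain ⟨d, hd⟩ := Nat.exists_eq_add_of_le (show i + 1 ≤ P from hi2)
    rw [show P - i = d + 1 by omega, show d + 1 - 1 = d by omega, show j * P = j * i + j * (d + 1) by rw [← mul_add]; congr 1; omega]
    ring
  have hyint : IsIntegral A y := by
    refine ⟨X ^ P + (C π * H - C f₀), monic_X_pow_add ?_, ?_⟩
    · refine lt_of_le_of_lt (degree_sub_le _ _) (max_lt ?_ ?_)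
      · refine lt_of_le_of_lt ((degree_mul_le _ _).trans (add_le_of_nonpos_left degree_C_le)) ?_
        rw [hH]
        refine lt_of_le_of_lt (degree_sum_le _ _) ((Finset.sup_lt_iff (WithBot.bot_lt_coe _)).2 fun i hi => ?_)
        exact lt_of_le_of_lt (degree_C_mul_X_pow_le _ _) (WithBot.coe_lt_coe.2 (Finset.mem_Ioo.1 hi).2)
      · exact lt_of_le_of_lt degree_C_le (WithBot.coe_lt_coe.2 hP)
    · rw [← aeval_def, map_add, map_pow, aeval_X, map_sub, map_mul, aeval_C, aeval_C]
      linear_combination hyH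
  let B := integralClosure A L
  let yB : B := ⟨y, hyint⟩
  obtain ⟨c, hc⟩ := Ideal.mem_span_singleton.1 hmem
  obtain ⟨r, hr⟩ := exists_add_pow_prime_pow_eq hp (yB - algebraMap A B g₀) (algebraMap A B g₀) n
  rw [sub_add_cancel] at hr
  have hrel : yB ^ P = algebraMap A B f₀ - algebraMap A B π * aeval yB H := by
    apply Subtype.ext
    push_cast
    show y ^ P = algebraMap A L f₀ - algebraMap A L π * aeval y H
    linear_combination hyH
  have hin : (yB - algebraMap A B g₀) ^ P ∈ Ideal.span {algebraMap A B π} := by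
    rw [Ideal.mem_span_singleton]
    have hcB : algebraMap A B f₀ - algebraMap A B g₀ ^ P = algebraMap A B π * algebraMap A B c := by
      rw [← map_pow, ← map_sub, hc, map_mul]
    have hpB : (p : B) = algebraMap A B π * algebraMap A B p' := by
      rw [← map_natCast (algebraMap A B), hp', map_mul]
    rw [← hPdef] at hr
    refine ⟨algebraMap A B c - aeval yB H - algebraMap A B p' * ((yB - algebraMap A B g₀) * algebraMap A B g₀ * r), ?_⟩
    rw [hrel, hpB] at hr
    linear_combination -hr + hcB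
  obtain ⟨b, hb⟩ := Ideal.mem_span_singleton.1 (hred ⟨P, hin⟩)
  have hyb : y = algebraMap A L g₀ + algebraMap A L π * (b : L) := by
    have := congrArg Subtype.val hb
    push_cast at this
    linear_combination this
  set u := 1 + π ^ j * g₀ with hu
  have hZg : Z * algebraMap A L g = algebraMap A L u + algebraMap A L π ^ (j + 1) * (b : L) := by
    rw [← hy1, hyb, hu, map_add, map_one, map_mul, map_pow]; ring
  have huu : IsUnit u := by
    refine hlift u ((isUnit_pow_iff hP.ne').1 ?_)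
    obtain ⟨q, hq⟩ := sub_dvd_pow_sub_pow (algebraMap A B u + algebraMap A B π ^ (j + 1) * b) (algebraMap A B u) P
    have hq' : algebraMap A L π ^ (j + 1) * ((b * q : B) : L) = algebraMap A L ((f : A) * (g : A) ^ P - u ^ P) := by
      have h3 := congrArg Subtype.val hq
      push_cast at h3
      rw [← hZg] at h3
      rw [map_sub, map_mul, map_pow, map_pow, ← hZ, ← mul_pow]
      push_cast
      linear_combination -h3 - (q : L) * hZg
    obtain ⟨c', hc'⟩ := hdesc _ _ _ (b * q).2 hq'
    have h4 : Ideal.Quotient.mk (Ideal.span {π}) u ^ P = Ideal.Quotient.mk (Ideal.span {π}) ((f : A) * (g : A) ^ P) := by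
      rw [← map_pow, eq_comm, Ideal.Quotient.eq, hc', Ideal.mem_span_singleton]
      exact Dvd.intro _ (by rw [pow_succ', mul_assoc])
    rw [h4]
    exact ((f.isUnit).mul (g.isUnit.pow P)).map _
  obtain ⟨v, hv⟩ := huu
  set b' : B := b * algebraMap A B (↑v⁻¹ : A) with hb'
  let w : B := b' ^ P + ∑ i ∈ Finset.Ioo 0 P, algebraMap A B (cc i) * b' ^ i
  have hZg' : Z * algebraMap A L ((g * v⁻¹ : Aˣ) : A) = 1 + algebraMap A L π ^ (j + 1) * (b' : L) := by
    rw [Units.val_mul, map_mul, ← mul_assoc, hZg, hb']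
    push_cast
    rw [add_mul, ← map_mul, ← hv, Units.mul_inv, map_one]
    ring
  have hwa : algebraMap A L π ^ ((j + 1) * P) * (w : L) = algebraMap A L ((f : A) * ((g * v⁻¹ : Aˣ) : A) ^ P - 1) := by
    rw [map_sub, map_mul, map_pow (algebraMap A L) ((g * v⁻¹ : Aˣ) : A), ← hZ, ← mul_pow, hZg', one_add_pow_eq _ hP,
      map_one]
    simp only [w]
    push_cast
    rw [mul_add, mul_pow, ← pow_mul, add_assoc, add_sub_cancel_left, add_left_cancel_iff, Finset.mul_sum]
    refine Finset.sum_congr rfl fun i hi => ?_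
    obtain ⟨hi1, hi2⟩ := Finset.mem_Ioo.1 hi
    rw [← map_natCast (algebraMap A L), hcc i hi, map_mul, map_pow, mul_pow, ← pow_mul,
      show (j + 1) * P = (j + 1) * (P - i) + (j + 1) * i by rw [← mul_add, Nat.sub_add_cancel hi2.le], pow_add]
    ring
  obtain ⟨c'', hc''⟩ := hdesc _ _ _ w.2 hwa
  exact hmax (g * v⁻¹) c'' (by linear_combination hc'')

end Groth.Agent.Lib.KummerLevel99.Basic
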